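import Mathlib

/-!
# The inverse of `A ⊗_R I` as a quotient of the dual of `I` (helper90)
-/

set_option autoImplicit false
set_option linter.style.haveILetI false
set_option linter.unusedSectionVars false
universe u
open scoped TensorProduct

namespace Groth.Agent.Lib.Helper90.DTen.Rel.Inv

variable {R A : Type u} [CommRing R] [CommRing A] [Algebra R A]
  (hφ : Function.Surjective (algebraMap R A))
  [Module.Invertible R (RingHom.ker (algebraMap R A))]
  {N : Type u} [AddCommGroup N] [Module A N] [Module R N] [IsScalarTower R A N]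
  (e : (A ⊗[R] (RingHom.ker (algebraMap R A))) ⊗[A] N ≃ₗ[A] A)

/-- post-composition with `R → A` -/
noncomputable def cMap : (RingHom.ker (algebraMap R A) →ₗ[R] R) →ₗ[R]
    (RingHom.ker (algebraMap R A) →ₗ[R] A) :=
  LinearMap.compRight R (Algebra.linearMap R A)

include hφ in
lemma cMap_surjective : Function.Surjective (cMap (R := R) (A := A)) := by
  intro g
  obtain ⟨h, hh⟩ := Module.projective_lifting_property (Algebra.linearMap R A) g hφ
  exact ⟨h, hh⟩

lemma cMap_eq_zero_iff (h : RingHom.ker (algebraMap R A) →ₗ[R] R) :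
    cMap (R := R) (A := A) h = 0 ↔
      ∃ t : R →ₗ[R] R, t ∘ₗ (RingHom.ker (algebraMap R A)).subtype = h := by
  constructor
  · intro h0
    have hmem : ∀ i, h i ∈ RingHom.ker (algebraMap R A) := by
      intro i
      have := LinearMap.congr_fun h0 i
      exact this
    let h' : RingHom.ker (algebraMap R A) →ₗ[R] RingHom.ker (algebraMap R A) :=
      h.codRestrict _ hmem
    obtain ⟨r, hr⟩ := (Module.Invertible.toModuleEnd_bijective
      (R := R) (M := RingHom.ker (algebraMap R A))).2 h'
    refine ⟨r • LinearMap.id, ?_⟩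
    ext i
    have h1 := LinearMap.congr_fun hr i
    have h2 : (r • i : RingHom.ker (algebraMap R A)) = h' i := h1
    have h3 : (r • i : RingHom.ker (algebraMap R A)).1 = (h' i).1 := congrArg Subtype.val h2
    have h4 : (h' i).1 = h i := rfl
    rw [h4] at h3
    simpa using h3
  · rintro ⟨t, rfl⟩
    ext i
    change algebraMap R A (t (i : R)) = 0
    have : t (i : R) = (i : R) * t 1 := by
      have := t.map_smul (i : R) 1
      simpa using this
    rw [this, map_mul]
    have hi : algebraMap R A (i : R) = 0 := i.2
    rw [hi, zero_mul]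

/-- `N` is the dual of `A ⊗ I`. -/
noncomputable def dEquiv : N ≃ₗ[A] Module.Dual A (A ⊗[R] (RingHom.ker (algebraMap R A))) :=
  Module.Invertible.linearEquivDual
    (TensorProduct.comm A N (A ⊗[R] (RingHom.ker (algebraMap R A))) ≪≫ₗ e)

/-- The surjection `I^∨ → N`. -/
noncomputable def pMap : (RingHom.ker (algebraMap R A) →ₗ[R] R) →ₗ[R] N :=
  ((dEquiv e).symm.restrictScalars R).toLinearMap ∘ₗ
    ((LinearMap.liftBaseChangeEquiv (R := R) (M := RingHom.ker (algebraMap R A)) (N := A)
      A).restrictScalars R).toLinearMap ∘ₗ cMap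

include hφ in
lemma pMap_surjective : Function.Surjective (pMap e) := by
  dsimp only [pMap]
  rw [LinearMap.coe_comp, LinearMap.coe_comp]
  exact ((dEquiv e).symm.restrictScalars R).surjective.comp
    (((LinearMap.liftBaseChangeEquiv (R := R) (M := RingHom.ker (algebraMap R A)) (N := A)
      A).restrictScalars R).surjective.comp (cMap_surjective hφ))

lemma pMap_eq_zero_iff (h : RingHom.ker (algebraMap R A) →ₗ[R] R) :
    pMap e h = 0 ↔ ∃ t : R →ₗ[R] R, t ∘ₗ (RingHom.ker (algebraMap R A)).subtype = h := by
  rw [← cMap_eq_zero_iff]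
  dsimp only [pMap]
  rw [LinearMap.comp_apply, LinearMap.comp_apply]
  constructor
  · intro h0
    have h1 := ((dEquiv e).symm.restrictScalars R).injective
      (h0.trans (map_zero ((dEquiv e).symm.restrictScalars R)).symm)
    exact ((LinearMap.liftBaseChangeEquiv (R := R) (M := RingHom.ker (algebraMap R A)) (N := A)
      A).restrictScalars R).injective (h1.trans (map_zero _).symm)
  · intro h0
    rw [h0, map_zero, map_zero]

end Groth.Agent.Lib.Helper90.DTen.Rel.Inv
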