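import Groth.Agent.Lib.Helper90.DTen.Rel.Inv.ExtComp
import Groth.Agent.Lib.Helper90.DTen.Rel.Inv.Alg

/-!
# `Ext¹_R(A, R) ≅ N` for `A = R/I`, `I` invertible, `N` the inverse of `A ⊗ I` (helper90)
-/

set_option autoImplicit false
set_option linter.style.haveILetI false
set_option linter.unusedSectionVars false
universe u
open CategoryTheory CategoryTheory.Limits CategoryTheory.Abelian
open scoped TensorProduct
attribute [local instance] HasDerivedCategory.standard

namespace Groth.Agent.Lib.Helper90.DTen.Rel.Inv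

section Quot

variable {R : Type*} [CommRing R] {M P₁ P₂ : Type*} [AddCommGroup M] [AddCommGroup P₁]
  [AddCommGroup P₂] [Module R M] [Module R P₁] [Module R P₂]

/-- Two quotients of a module by the same kernel are isomorphic. -/
noncomputable def equivOfSurjectiveOfKerEq (f₁ : M →ₗ[R] P₁) (f₂ : M →ₗ[R] P₂)
    (h₁ : Function.Surjective f₁) (h₂ : Function.Surjective f₂)
    (h : ∀ m, f₁ m = 0 ↔ f₂ m = 0) : P₁ ≃ₗ[R] P₂ :=
  (LinearMap.quotKerEquivOfSurjective f₁ h₁).symm ≪≫ₗ
    Submodule.quotEquivOfEq _ _ (by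
      ext m
      rw [LinearMap.mem_ker, LinearMap.mem_ker]
      exact h m) ≪≫ₗ LinearMap.quotKerEquivOfSurjective f₂ h₂

end Quot

variable {R A : Type u} [CommRing R] [CommRing A] [Algebra R A]
  (hφ : Function.Surjective (algebraMap R A))
  [Module.Invertible R (RingHom.ker (algebraMap R A))]
  {N : Type u} [AddCommGroup N] [Module A N] [Module R N] [IsScalarTower R A N]
  (e : (A ⊗[R] (RingHom.ker (algebraMap R A))) ⊗[A] N ≃ₗ[A] A)

instance : Projective (IR R A) :=
  (IsProjective.iff_projective (R := R) (P := RingHom.ker (algebraMap R A))).1 inferInstance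

instance : Projective (ModuleCat.of R R) :=
  (IsProjective.iff_projective (R := R) (P := R)).1 inferInstance

instance : Projective (sesS R A).X₁ := inferInstanceAs (Projective (IR R A))

instance : Projective (sesS R A).X₂ := inferInstanceAs (Projective (ModuleCat.of R R))

/-- `Ext¹_R(A, R) ≅ N`. -/
noncomputable def ext1Equiv :
    Ext.{u + 1} (sesS R A).X₃ (ModuleCat.of R R) 1 ≃ₗ[R] N :=
  equivOfSurjectiveOfKerEq (sigma (sesS_shortExact hφ) (ModuleCat.of R R))
    ((pMap e) ∘ₗ (ModuleCat.homLinearEquiv (S := R) (M := (sesS R A).X₁)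
      (N := ModuleCat.of R R)).toLinearMap)
    (sigma_surjective (sesS_shortExact hφ) (ModuleCat.of R R))
    ((pMap_surjective hφ e).comp (ModuleCat.homLinearEquiv (S := R)).surjective)
    (fun m => by
      rw [sigma_eq_zero_iff]
      have key := pMap_eq_zero_iff e (show RingHom.ker (algebraMap R A) →ₗ[R] R from m.hom)
      refine Iff.trans ?_ key.symm
      constructor
      · rintro ⟨t, rfl⟩
        exact ⟨t.hom, rfl⟩
      · rintro ⟨t, ht⟩
        exact ⟨ModuleCat.ofHom t, ModuleCat.hom_ext ht⟩)

end Groth.Agent.Lib.Helper90.DTen.Rel.Inv
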