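import Groth.Agent.Lib.Helper90.DTen.Rel.Inv.SES
import Mathlib.Algebra.Homology.DerivedCategory.Ext.ExactSequences
import Mathlib.Algebra.Homology.DerivedCategory.Ext.EnoughProjectives
import Mathlib.Algebra.Homology.DerivedCategory.Ext.Linear

/-!
# `Ext` groups of the cokernel of a map of projective modules (helper90)
-/

set_option autoImplicit false
set_option linter.style.haveILetI false
set_option linter.unusedSectionVars false
universe u
open CategoryTheory CategoryTheory.Limits CategoryTheory.Abelian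
attribute [local instance] HasDerivedCategory.standard

namespace Groth.Agent.Lib.Helper90.DTen.Rel.Inv

variable {R : Type u} [CommRing R]

instance hasExtModuleCat : HasExt.{u + 1} (ModuleCat.{u} R) := hasExt_of_hasDerivedCategory _

variable {S : ShortComplex (ModuleCat.{u} R)} (hS : S.ShortExact) [Projective S.X₁]
  [Projective S.X₂] (Y : ModuleCat.{u} R)

include hS in
/-- higher `Ext` of the cokernel vanish -/
theorem ext_eq_zero_of_two_le (n : ℕ) (x : Ext.{u + 1} S.X₃ Y (n + 2)) : x = 0 := by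
  have h1 : (Ext.mk₀ S.g).comp x (zero_add (n + 2)) = 0 := Ext.eq_zero_of_projective _
  obtain ⟨x₁, rfl⟩ := Ext.contravariant_sequence_exact₃ hS Y x h1
    (show 1 + (n + 1) = n + 2 by omega)
  have h2 : x₁ = 0 := Ext.eq_zero_of_projective _
  rw [h2, Ext.comp_zero]

/-- the connecting map `Hom(X₁, Y) ⟶ Ext¹(X₃, Y)` -/
noncomputable def sigma : (S.X₁ ⟶ Y) →ₗ[R] Ext.{u + 1} S.X₃ Y 1 where
  toFun h := hS.extClass.comp (Ext.mk₀ h) (add_zero 1)
  map_add' h h' := by rw [Ext.mk₀_add, Ext.comp_add]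
  map_smul' r h := by
    rw [Ext.mk₀_smul, Ext.comp_smul]
    rfl

lemma sigma_apply (h : S.X₁ ⟶ Y) :
    sigma hS Y h = hS.extClass.comp (Ext.mk₀ h) (add_zero 1) := rfl

theorem sigma_surjective : Function.Surjective (sigma hS Y) := by
  intro x
  have h1 : (Ext.mk₀ S.g).comp x (zero_add 1) = 0 := Ext.eq_zero_of_projective _
  obtain ⟨x₁, rfl⟩ := Ext.contravariant_sequence_exact₃ hS Y x h1 (show 1 + 0 = 1 by omega)
  exact ⟨Ext.homEquiv₀ x₁, by rw [sigma_apply, Ext.mk₀_homEquiv₀_apply]⟩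

theorem sigma_eq_zero_iff (h : S.X₁ ⟶ Y) :
    sigma hS Y h = 0 ↔ ∃ t : S.X₂ ⟶ Y, S.f ≫ t = h := by
  constructor
  · intro h0
    obtain ⟨x₂, hx₂⟩ := Ext.contravariant_sequence_exact₁ hS Y (Ext.mk₀ h)
      (show 1 + 0 = 1 by omega) h0
    refine ⟨Ext.homEquiv₀ x₂, ?_⟩
    apply (Ext.mk₀_bijective _ _).1
    rw [← Ext.mk₀_comp_mk₀, Ext.mk₀_homEquiv₀_apply, hx₂]
  · rintro ⟨t, rfl⟩
    rw [sigma_apply, ← Ext.mk₀_comp_mk₀]
    exact hS.extClass_comp_assoc (Ext.mk₀ t)

end Groth.Agent.Lib.Helper90.DTen.Rel.Inv
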