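import Groth.Agent.Lib.Helper90.DTen.Rel.Inv.Ext1
import Groth.Agent.Lib.Helper6.HomSingle

/-!
# `RHom_R(A, R) ≅ N[-1]` for `A = R/I`, `I` invertible, `N` the inverse of `A ⊗ I` (helper90)
-/

set_option autoImplicit false
set_option linter.style.haveILetI false
set_option linter.unusedSectionVars false
universe u
open CategoryTheory CategoryTheory.Limits CategoryTheory.Abelian DerivedCategory
open scoped TensorProduct
attribute [local instance] HasDerivedCategory.standard

namespace Groth.Agent.Lib.Helper90.DTen.Rel.Inv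

open _root_.DTen

variable {R A : Type u} [CommRing R] [CommRing A] [Algebra R A]
  (hφ : Function.Surjective (algebraMap R A))
  [Module.Invertible R (RingHom.ker (algebraMap R A))]

variable (R A) in
/-- `Hom_{D(R)}(A[0], R[i])`, in the form produced by the adjunction. -/
abbrev XGrp (i : ℤ) : Type (u + 1) :=
  (Dual.inD R ((ModuleCat.restrictScalars (algebraMap R A)).obj (ModuleCat.of A A)) ⟶ (unit R)⟦i⟧)

variable (R A) in
/-- `XGrp n ≅ Extⁿ_R(A, R)`. -/
noncomputable def xEquiv (n : ℕ) :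
    XGrp R A (n : ℤ) ≃ₗ[R] Ext.{u + 1} (sesS R A).X₃ (ModuleCat.of R R) n :=
  (Linear.homCongr R (Iso.refl ((singleFunctor (ModuleCat.{u} R) 0).obj (sesS R A).X₃))
    ((shiftFunctor (Dual.D R) (n : ℤ)).mapIso (unitIsoInD R))) ≪≫ₗ
    (Ext.homLinearEquiv (R := R) (X := (sesS R A).X₃) (Y := ModuleCat.of R R) (n := n)).symm

include hφ in
lemma hom_AR_eq_zero (h : (sesS R A).X₃ ⟶ ModuleCat.of R R) : h = 0 := by
  have hS := sesS_shortExact hφ
  haveI : Epi (sesS R A).g := hS.epi_g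
  let h' : ModuleCat.of R R ⟶ ModuleCat.of R R := (sesS R A).g ≫ h
  have h0 : (sesS R A).f ≫ h' = 0 := ((sesS R A).zero_assoc h).trans zero_comp
  have h1 : ∀ i : RingHom.ker (algebraMap R A), (h'.hom (1 : R)) • i = (0 : R) • i := by
    intro i
    rw [zero_smul]
    apply Subtype.ext
    change h'.hom (1 : R) * (i : R) = 0
    have h2 : h'.hom ((i : R) • (1 : R)) = 0 := by
      have h3 := congrArg (fun g => g.hom i) h0
      have h3' : h'.hom (i : R) = 0 := h3
      rw [smul_eq_mul, mul_one]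
      exact h3'
    rw [map_smul, smul_eq_mul] at h2
    rw [mul_comm]
    exact h2
  have h4 : h'.hom (1 : R) = 0 := FaithfulSMul.eq_of_smul_eq_smul h1
  have h5 : h' = 0 := by
    ext
    simpa using h4
  exact (cancel_epi (sesS R A).g).1 (h5.trans comp_zero.symm)

include hφ in
/-- `Hom_{D(R)}(A[0], R[i]) = 0` for `i ≠ 1`. -/
theorem subsingleton_XGrp (i : ℤ) (hi : i ≠ 1) : Subsingleton (XGrp R A i) := by
  have hS := sesS_shortExact hφ
  by_cases hneg : i < 0
  · have h0 : (unit R).IsGE 0 := TStructure.t.isGE_of_iso (unitIsoInD R).symm 0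
    have hKs : ((unit R)⟦i⟧).IsGE (0 - i) := TStructure.t.isGE_shift (unit R) 0 i (0 - i) (by omega)
    exact ⟨fun f g => by
      rw [TStructure.t.zero_of_isLE_of_isGE f 0 (0 - i) (by omega) inferInstance hKs,
        TStructure.t.zero_of_isLE_of_isGE g 0 (0 - i) (by omega) inferInstance hKs]⟩
  · obtain ⟨n, rfl⟩ : ∃ n : ℕ, i = (n : ℤ) := ⟨i.toNat, by omega⟩
    refine (xEquiv R A n).toEquiv.subsingleton_congr.2 ?_
    match n, hi with
    | 0, _ =>
      refine (Ext.homEquiv₀ (X := (sesS R A).X₃) (Y := ModuleCat.of R R)).subsingleton_congr.2 ?_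
      exact ⟨fun f g => by rw [hom_AR_eq_zero hφ f, hom_AR_eq_zero hφ g]⟩
    | 1, h => exact absurd rfl h
    | (m + 2), _ =>
      exact ⟨fun f g => by
        rw [ext_eq_zero_of_two_le hS (ModuleCat.of R R) m f,
          ext_eq_zero_of_two_le hS (ModuleCat.of R R) m g]⟩

section Omega

variable [HasRHomRel (algebraMap R A)]

variable (R A) in
/-- `ω = RHom_R(A, R)`. -/
noncomputable abbrev omega : Dual.D A := (RHomRel (algebraMap R A)).obj (unit R)

include hφ in
theorem subsingleton_HD_omega (i : ℤ) (hi : i ≠ 1) : Subsingleton (Dual.HD A (omega R A) i) := by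
  obtain ⟨θ, -⟩ := Groth.Agent.Lib.Helper6.RestrLin.exists_semilinear_addEquiv (algebraMap R A)
    (relAdj (algebraMap R A)) (unit R) i
  obtain ⟨e⟩ := Groth.Agent.Lib.Helper6.HomSingle.nonempty_homSingleEquiv (omega R A) i
  have h0 : Subsingleton (XGrp R A i) := subsingleton_XGrp hφ i hi
  have h1 : Subsingleton (Dual.inD A A ⟶ (omega R A)⟦i⟧) := θ.toEquiv.subsingleton
  exact e.symm.toEquiv.subsingleton

variable {N : Type u} [AddCommGroup N] [Module A N]
  (e : (A ⊗[R] (RingHom.ker (algebraMap R A))) ⊗[A] N ≃ₗ[A] A)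

include hφ e in
/-- `RHom_R(A, R) ≅ N[-1]`. -/
theorem nonempty_omega_iso : Nonempty (omega R A ≅ (Dual.inD A N)⟦(-1 : ℤ)⟧) := by
  letI : Module R N := Module.compHom N (algebraMap R A)
  haveI : IsScalarTower R A N := IsScalarTower.of_algebraMap_smul (fun _ _ => rfl)
  haveI hGE : (omega R A).IsGE 1 := by
    rw [DerivedCategory.isGE_iff]
    intro i hi
    have := subsingleton_HD_omega hφ i (by omega)
    exact ModuleCat.isZero_of_subsingleton _
  haveI hLE : (omega R A).IsLE 1 := by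
    rw [DerivedCategory.isLE_iff]
    intro i hi
    have := subsingleton_HD_omega hφ i (by omega)
    exact ModuleCat.isZero_of_subsingleton _
  obtain ⟨M₁, ⟨e₁⟩⟩ := exists_iso_singleFunctor_obj_of_isGE_of_isLE (omega R A) 1
  obtain ⟨θ, hθ⟩ := Groth.Agent.Lib.Helper6.RestrLin.exists_semilinear_addEquiv (algebraMap R A)
    (relAdj (algebraMap R A)) (unit R) 1
  obtain ⟨eH⟩ := Groth.Agent.Lib.Helper6.HomSingle.nonempty_homSingleEquiv (omega R A) 1
  let l₁ : M₁ ≃ₗ[A] Dual.HD A ((singleFunctor (ModuleCat.{u} A) 1).obj M₁) 1 :=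
    ((singleFunctorCompHomologyFunctorIso (ModuleCat.{u} A) 1).app M₁).toLinearEquiv.symm
  let l₂ : Dual.HD A ((singleFunctor (ModuleCat.{u} A) 1).obj M₁) 1 ≃ₗ[A] Dual.HD A (omega R A) 1 :=
    ((homologyFunctor (ModuleCat.{u} A) 1).mapIso e₁.symm).toLinearEquiv
  let l₃ : M₁ ≃ₗ[A] (Dual.inD A A ⟶ (omega R A)⟦(1 : ℤ)⟧) := (l₁.trans l₂).trans eH.symm
  let l₄ : XGrp R A ((1 : ℕ) : ℤ) ≃ₗ[R] N := (xEquiv R A 1).trans (ext1Equiv hφ e)
  let Φ : M₁ ≃+ N := (l₃.toAddEquiv.trans θ).trans l₄.toAddEquiv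
  have hΦ : ∀ (r : R) (m : M₁), Φ (algebraMap R A r • m) = algebraMap R A r • Φ m := by
    intro r m
    change l₄ (θ (l₃ (algebraMap R A r • m))) = algebraMap R A r • l₄ (θ (l₃ m))
    rw [map_smul, hθ]
    have := l₄.map_smul r (θ (l₃ m))
    rw [this, algebraMap_smul]
  let Φl : M₁ ≃ₗ[A] N :=
    { Φ with
      map_smul' := fun a m => by
        obtain ⟨r, rfl⟩ := hφ a
        exact hΦ r m }
  exact ⟨e₁ ≪≫ (singleFunctor (ModuleCat.{u} A) 1).mapIso Φl.toModuleIso ≪≫
    (((singleFunctors (ModuleCat.{u} A)).shiftIso (-1) 1 0 (by omega)).app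
      (ModuleCat.of A N)).symm⟩

end Omega

end Groth.Agent.Lib.Helper90.DTen.Rel.Inv
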