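import Groth.Agent.Lib.Helper35.ConeRep2
import Groth.Agent.Lib.Helper6.RestrLin2
import Groth.Prelude.Def_DTen4

/-!
# `A = R/I` with `I` finite projective is perfect over `R` (helper90)
-/

set_option autoImplicit false
set_option linter.style.haveILetI false
set_option linter.unusedSectionVars false
universe u
open CategoryTheory CategoryTheory.Limits
attribute [local instance] HasDerivedCategory.standard

namespace Groth.Agent.Lib.Helper90.DTen.Rel.Inv

open _root_.DTen

section Single

variable {R : Type u} [CommRing R]

/-- A finite projective module in degree `0` is perfect. -/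
theorem isPerfect_single (M : ModuleCat.{u} R) [Module.Finite R M] [Module.Projective R M] :
    DRing.IsPerfect R ((DerivedCategory.singleFunctor (ModuleCat.{u} R) 0).obj M) := by
  refine ⟨(HomologicalComplex.single (ModuleCat.{u} R) (ComplexShape.up ℤ) 0).obj M, 0, 0, ?_, ?_,
    ⟨((DerivedCategory.singleFunctorIsoCompQ (ModuleCat.{u} R) 0).app M).symm⟩⟩
  · intro i hi
    exact HomologicalComplex.isZero_single_obj_X _ _ _ _ (by omega)
  · intro i
    by_cases hi : i = 0
    · subst hi
      let e : ((HomologicalComplex.single (ModuleCat.{u} R) (ComplexShape.up ℤ) 0).obj M).X 0 ≅ M :=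
        HomologicalComplex.singleObjXSelf (ComplexShape.up ℤ) 0 M
      exact ⟨Module.Finite.equiv e.toLinearEquiv.symm,
        Module.Projective.of_equiv e.toLinearEquiv.symm⟩
    · have hz : IsZero (((HomologicalComplex.single (ModuleCat.{u} R) (ComplexShape.up ℤ) 0).obj
          M).X i) := HomologicalComplex.isZero_single_obj_X _ _ _ _ hi
      have : Subsingleton (((HomologicalComplex.single (ModuleCat.{u} R) (ComplexShape.up ℤ) 0).obj
          M).X i) := ModuleCat.subsingleton_of_isZero hz
      exact ⟨inferInstance, inferInstance⟩

end Single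

variable (R A : Type u) [CommRing R] [CommRing A] [Algebra R A]

/-- `A` as an `R`-module. -/
noncomputable abbrev AR : ModuleCat.{u} R :=
  (ModuleCat.restrictScalars.{u} (algebraMap R A)).obj (ModuleCat.of A A)

/-- the kernel of `R → A` as a module -/
noncomputable abbrev IR : ModuleCat.{u} R := ModuleCat.of R (RingHom.ker (algebraMap R A))

/-- the structure map `R ⟶ A` as a map of `R`-modules -/
noncomputable def piMap : ModuleCat.of R R ⟶ AR R A :=
  ModuleCat.ofHom (Y := AR R A)
    { toFun := fun r => (show AR R A from algebraMap R A r)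
      map_add' := fun r r' => map_add (algebraMap R A) r r'
      map_smul' := fun r r' => by
        change algebraMap R A (r * r') = algebraMap R A r * algebraMap R A r'
        exact map_mul _ _ _ }

lemma piMap_apply (r : R) : (piMap R A).hom r = (show AR R A from algebraMap R A r) := rfl

/-- the inclusion `I ⟶ R` -/
noncomputable def incMap : IR R A ⟶ ModuleCat.of R R :=
  ModuleCat.ofHom (RingHom.ker (algebraMap R A)).subtype

/-- The short complex `I ⟶ R ⟶ A`. -/
noncomputable def sesS : ShortComplex (ModuleCat.{u} R) :=
  ShortComplex.mk (incMap R A) (piMap R A) (by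
    ext x
    change algebraMap R A (x : R) = 0
    exact x.2)

variable {R A}

theorem sesS_shortExact (hφ : Function.Surjective (algebraMap R A)) : (sesS R A).ShortExact := by
  haveI : Mono (sesS R A).f := by
    rw [ModuleCat.mono_iff_injective]
    exact Subtype.val_injective
  haveI : Epi (sesS R A).g := by
    rw [ModuleCat.epi_iff_surjective]
    exact hφ
  refine ShortComplex.ShortExact.mk ?_
  rw [ShortComplex.moduleCat_exact_iff]
  intro x hx
  exact ⟨⟨x, hx⟩, rfl⟩

/-- `unit A ≅ A[0]`. -/
noncomputable def unitIsoInD (B : Type u) [CommRing B] : unit B ≅ Dual.inD B B :=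
  ((DerivedCategory.singleFunctorIsoCompQ (ModuleCat.{u} B) 0).app (ModuleCat.of B B)).symm

open Groth.Agent.Lib.Helper35.KL in
/-- `A = R/I` is perfect over `R` when `I` is finite projective. -/
theorem isPerfect_res_unit (hφ : Function.Surjective (algebraMap R A))
    [Module.Finite R (RingHom.ker (algebraMap R A))]
    [Module.Projective R (RingHom.ker (algebraMap R A))] :
    DRing.IsPerfect R ((DRing.restrictD (algebraMap R A)).obj (unit A)) := by
  have hS := sesS_shortExact hφ
  have h₁ : DRing.IsPerfect R hS.singleTriangle.obj₁ := isPerfect_single (IR R A)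
  have h₂ : DRing.IsPerfect R hS.singleTriangle.obj₂ := isPerfect_single (ModuleCat.of R R)
  have h₃ := isPerfect_obj₃ _ hS.singleTriangle_distinguished h₁ h₂
  refine isPerfect_of_iso ?_ h₃
  exact (Groth.Agent.Lib.Helper6.RestrLin.restrictDSingleIso (algebraMap R A)).symm ≪≫
    (DRing.restrictD (algebraMap R A)).mapIso (unitIsoInD A).symm

end Groth.Agent.Lib.Helper90.DTen.Rel.Inv
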